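import Cfsg.Agent.H917.Conj.Basic
import Cfsg.Agent.CharactersDeep.ColumnBessel
import Cfsg.Agent.H129.CycRow
import Cfsg.Agent.S2341
import Cfsg.Agent.S1070
import Cfsg.Agent.Classification.TypeZIV.Four

/-!
# S4792: the row `²E₆(q)` (helper352, task 3782)

`row_of_exact` : a group with an isolated cyclic subgroup `T` (`CycExact`) all of whose nontrivial irreducible
characters have degree `d` with `|T|² (|T| - 1) ≤ d²`.
-/

set_option autoImplicit false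

open Cfsg
open scoped ComplexConjugate

namespace Cfsg.Agent.H352.Conj

open Cfsg.Agent.Characters.Core Cfsg.Agent.H430.Conj Cfsg.Agent.H129.CycT

universe u v

section

variable {G : Type u} [Group G] [Finite G]

theorem hasFix_one (C : Subgroup G) : HasFix C (1 : G → ℂ) := by
  unfold HasFix
  have := Fintype.ofFinite C
  rw [finsum_eq_sum_of_fintype]
  simp

/-- **Tool M, basic form** (no simplicity): `C` is a CC-subgroup. -/
theorem row_of_cc_basic {C : Subgroup G} (hC1 : C ≠ ⊥) (hC : ∀ c ∈ C, c ≠ 1 → Subgroup.centralizer {c} = C)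
    (hd : ∀ (χ : G → ℂ) (d : ℕ), IsIrrCharacter G χ → χ ≠ 1 → χ 1 = d →
      (Nat.card C) ^ 2 * (Nat.card C - 1) ≤ d ^ 2) : Row G := by
  classical
  intro χ hχ
  obtain ⟨x, hx, hx1⟩ := (Subgroup.ne_bot_iff_exists_ne_one.1 hC1 |>.imp fun a h => ⟨a.2, h⟩ :
    ∃ x : C, (x : G) ∈ C ∧ x ≠ 1)
  have hx1' : (x : G) ≠ 1 := fun h => hx1 (Subtype.ext h)
  by_cases h1 : χ = 1
  · subst h1
    exact ⟨1, hasFix_one _⟩
  refine ⟨x, ?_⟩
  rw [hC x hx hx1']
  unfold HasFix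
  intro h0
  have := Fintype.ofFinite C
  rw [finsum_eq_sum_of_fintype, ← Finset.add_sum_erase _ _ (Finset.mem_univ (1 : C))] at h0
  obtain ⟨d, hd0, hd1⟩ := isIrr_apply_one hχ
  have hd2 := hd χ d hχ h1 hd1
  set t := Nat.card C with ht
  have ht1 : 1 < t := by
    rw [ht, Finite.one_lt_card_iff_nontrivial]
    exact ⟨x, 1, hx1⟩
  have hb : ∀ c ∈ (Finset.univ : Finset C).erase 1, ‖χ (c : G)‖ ≤ Real.sqrt (t - 1) := by
    intro c hc
    have hc1 : (c : G) ≠ 1 := fun h => (Finset.mem_erase.1 hc).1 (Subtype.ext h)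
    apply Real.le_sqrt_of_sq_le
    have h2 := Cfsg.Agent.CharactersDeep.ColumnBessel.sum_norm_sq_le
      ({⟨χ, hχ⟩, ⟨1, isIrr_one⟩} : Finset (IrrCharacter G)) (c : G)
    rw [Finset.sum_pair (fun h => h1 (congrArg Subtype.val h)), hC c c.2 hc1] at h2
    simp only [Pi.one_apply, norm_one, one_pow] at h2
    have h3 : (Nat.card C : ℝ) = t := rfl
    rw [h3] at h2
    linarith
  have h2 : ‖∑ c ∈ (Finset.univ : Finset C).erase 1, χ (c : G)‖ ≤ (t - 1 : ℝ) * Real.sqrt (t - 1) := by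
    refine (norm_sum_le_of_le _ hb).trans (le_of_eq ?_)
    rw [Finset.sum_const, Finset.card_erase_of_mem (Finset.mem_univ _), Finset.card_univ, ← Nat.card_eq_fintype_card,
      nsmul_eq_mul, Nat.cast_sub ht1.le, Nat.cast_one]
  have h3 : (d : ℝ) ≤ (t - 1 : ℝ) * Real.sqrt (t - 1) := by
    have h4 : ‖(χ ((1 : C) : G) : ℂ)‖ = d := by
      rw [Subgroup.coe_one, hd1, Complex.norm_natCast]
    rw [← h4, eq_neg_of_add_eq_zero_left h0, norm_neg]
    exact h2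
  have ht' : (1 : ℝ) < t := by exact_mod_cast ht1
  have h5 : (d : ℝ) ^ 2 ≤ (t - 1 : ℝ) ^ 3 := by
    calc (d : ℝ) ^ 2 ≤ ((t - 1 : ℝ) * Real.sqrt (t - 1)) ^ 2 := pow_le_pow_left₀ (by positivity) h3 2
      _ = (t - 1 : ℝ) ^ 3 := by rw [mul_pow, Real.sq_sqrt (by linarith)]; ring
  have h6 : (t : ℝ) ^ 2 * (t - 1) ≤ (d : ℝ) ^ 2 := by
    have h7 : ((t ^ 2 * (t - 1) : ℕ) : ℝ) ≤ ((d ^ 2 : ℕ) : ℝ) := by exact_mod_cast hd2
    rw [Nat.cast_mul, Nat.cast_sub ht1.le] at h7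
    push_cast at h7
    exact h7
  nlinarith

/-- from `CycExact` and a degree bound -/
theorem row_of_exact {m b : ℕ} (h : CycExact G m) (hm : 1 < m)
    (hb : ∀ (χ : G → ℂ) (d : ℕ), IsIrrCharacter G χ → χ ≠ 1 → χ 1 = d → b ≤ d) (hmb : m ^ 2 * (m - 1) ≤ b ^ 2) :
    Row G := by
  obtain ⟨T, -, h2, h3⟩ := h
  refine row_of_cc_basic (C := T) ?_ h3 fun χ d h4 h5 h6 => ?_
  · rintro rfl
    rw [Subgroup.card_bot] at h2
    omega
  · rw [h2]
    exact hmb.trans (Nat.pow_le_pow_left (hb χ d h4 h5 h6) 2)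

end

/-- irreducible representations of degree `≥ 2` have degree `≥ b`; no nontrivial linear characters -/
theorem deg_of_rep {G : Type u} [Group G] [Finite G] [IsSimpleGroup G] (hna : ¬ IsMulCommutative G) {b : ℕ}
    (hb : ∀ (k : ℕ) (ρ : Representation ℂ G (Fin k → ℂ)), ρ.IsIrreducible → 2 ≤ k → b ≤ k) (χ : G → ℂ) (d : ℕ)
    (hχ : IsIrrCharacter G χ) (h1 : χ ≠ 1) (hd : χ 1 = d) : b ≤ d := by
  have hd1 : d ≠ 1 := by
    rintro rfl
    exact h1 (Cfsg.Agent.Classification.TypeZIV.Four.eq_one_of_apply_one hna hχ (by rw [hd, Nat.cast_one]))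
  obtain ⟨m, hm, hm1⟩ := isIrr_apply_one hχ
  have hmd : m = d := by exact_mod_cast hm1.symm.trans hd
  subst hmd
  obtain ⟨n, ρ, hρ, rfl⟩ := hχ
  have h2 : ρ.character 1 = n := by
    rw [Representation.char_one]
    simp
  have h3 : m = n := by exact_mod_cast hm1.symm.trans h2
  subst h3
  exact hb m ρ hρ (by omega)

/-- **`²E₆(q)`** -/
theorem row_te6 {S : Type*} [Group S] [Finite S] (h : Cfsg.Lie.Iso2E6 S) : Row S := by
  obtain ⟨K, _, _, q, hq, hK, ⟨e⟩⟩ := h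
  obtain ⟨hs, hna⟩ := Cfsg.Agent.S1070.result hq hK
  have hfin : Finite ↥(Cfsg.Lie.twistedE6 K q) := inferInstance
  refine Row.of_equiv e.symm ?_
  have hq2 : 2 ≤ q := hq.two_le
  have hle : q ^ 3 ≤ q ^ 6 := Nat.pow_le_pow_right (by omega) (by norm_num)
  have hE := exact_tE6_18 (F := K) hq hK (N := q ^ 6 - q ^ 3 + 1) (by push_cast [Nat.cast_sub hle]; ring)
  have h8 : 8 ≤ q ^ 3 := by
    calc 8 = 2 ^ 3 := by norm_num
      _ ≤ q ^ 3 := Nat.pow_le_pow_left hq2 3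
  have h6 : q ^ 6 = q ^ 3 * q ^ 3 := by ring
  have h57 : 57 ≤ q ^ 6 - q ^ 3 + 1 := by
    have : 8 * q ^ 3 ≤ q ^ 3 * q ^ 3 := Nat.mul_le_mul_right _ h8
    omega
  have hg : Nat.gcd 3 (q + 1) ≤ 3 := Nat.le_of_dvd (by norm_num) (Nat.gcd_dvd_left _ _)
  have hg0 : 0 < Nat.gcd 3 (q + 1) := Nat.gcd_pos_of_pos_left _ (by norm_num)
  refine row_of_exact (b := q * (q ^ 6 - q ^ 3 + 1) * (q ^ 4 + 1)) hE ?_
    (deg_of_rep hna (Cfsg.Agent.S2341.result q hq hK)) ?_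
  · calc 1 < 57 / 3 := by norm_num
      _ ≤ (q ^ 6 - q ^ 3 + 1) / 3 := Nat.div_le_div_right h57
      _ ≤ _ := Nat.div_le_div_left hg hg0
  · set n := q ^ 6 - q ^ 3 + 1 with hn
    have h1 : n / Nat.gcd 3 (q + 1) ≤ n := Nat.div_le_self _ _
    have h2 : n ≤ q ^ 6 := by omega
    calc (n / Nat.gcd 3 (q + 1)) ^ 2 * (n / Nat.gcd 3 (q + 1) - 1) ≤ n ^ 2 * n :=
          Nat.mul_le_mul (Nat.pow_le_pow_left h1 2) ((Nat.sub_le _ _).trans h1)
      _ ≤ n ^ 2 * q ^ 6 := Nat.mul_le_mul_left _ h2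
      _ ≤ n ^ 2 * (q * (q ^ 4 + 1)) ^ 2 := by
          refine Nat.mul_le_mul_left _ ?_
          calc q ^ 6 = (q ^ 3) ^ 2 := by ring
            _ ≤ (q * (q ^ 4 + 1)) ^ 2 := by
                refine Nat.pow_le_pow_left ?_ 2
                nlinarith [Nat.pow_le_pow_right (show 1 ≤ q by omega) (show 2 ≤ 4 by norm_num)]
      _ = (q * n * (q ^ 4 + 1)) ^ 2 := by ring

end Cfsg.Agent.H352.Conj
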